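import Mathlib
import Cfsg.Agent.Helper71.GS.Defs

set_option autoImplicit false

/-!
# S4316 piece (G11), for helper71: from the ambient statement (inside `G ⋊ A`) to the action
statement (helper59)
-/

namespace Cfsg.Agent.Helper59.GS

universe u

theorem card_commutator_self_eq {Γ : Type*} [Group Γ] (K : Subgroup Γ) :
    Nat.card ↥⁅K, K⁆ = Nat.card ↥(commutator ↥K) := by
  rw [← Subgroup.map_subtype_commutator]
  exact Subgroup.card_map_of_injective K.subtype_injective

theorem of_ambient (F : ℕ → ℕ → ℕ) (hF : Cfsg.Agent.Helper71.GS.AmbientStmt.{u} F) :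
    ∀ (q m : ℕ) (A G : Type u) [Group A] [Finite A] [Group G] [Finite G] [MulDistribMulAction A G],
      q.Prime → Nat.card A = q ^ 3 → (∀ a b : A, a * b = b * a) → (∀ a : A, a ^ q = 1) → ¬ q ∣ Nat.card G →
      (∀ a : A, a ≠ 1 → Nat.card ↥(commutator ↥(FixedPoints.subgroup (Subgroup.zpowers a) G)) ≤ m) →
      Nat.card ↥(commutator G) ≤ F q m := by
  intro q m A G _ _ _ _ _ hq hA hcomm hexp hqG hm
  classical
  let φ : A →* MulAut G := MulDistribMulAction.toMulAut A G
  let H := G ⋊[φ] A
  haveI : Finite H := Finite.of_equiv _ (SemidirectProduct.equivProd (φ := φ)).symm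
  let iL : G →* H := SemidirectProduct.inl
  let iR : A →* H := SemidirectProduct.inr
  have hiL : Function.Injective iL := SemidirectProduct.inl_injective
  have hiR : Function.Injective iR := SemidirectProduct.inr_injective
  have hconj : ∀ (a : A) (g : G), iR a * iL g * (iR a)⁻¹ = iL (a • g) := by
    intro a g
    have := SemidirectProduct.inl_aut (φ := φ) a g
    rw [map_inv] at this
    exact this.symm
  have hNn : (iL.range).Normal := by
    rw [show iL.range = (SemidirectProduct.rightHom (φ := φ)).ker from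
      SemidirectProduct.range_inl_eq_ker_rightHom]
    infer_instance
  have hcomm' : ∀ x ∈ iR.range, ∀ y ∈ iR.range, x * y = y * x := by
    rintro _ ⟨a, rfl⟩ _ ⟨b, rfl⟩
    rw [← map_mul, ← map_mul, hcomm a b]
  have hexp' : ∀ a ∈ iR.range, a ^ q = 1 := by
    rintro _ ⟨a, rfl⟩
    rw [← map_pow, hexp a, map_one]
  have hcard' : Nat.card ↥(iR.range) = q ^ 3 := by
    rw [Nat.card_congr (MonoidHom.ofInjective hiR).toEquiv.symm, hA]
  have hcardN : Nat.card ↥(iL.range) = Nat.card G :=
    Nat.card_congr (MonoidHom.ofInjective hiL).toEquiv.symm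
  have hqN : ¬ q ∣ Nat.card ↥(iL.range) := by rw [hcardN]; exact hqG
  -- the centralizers
  have hcent : ∀ a0 : A, iL.range ⊓ Subgroup.centralizer {iR a0} =
      (FixedPoints.subgroup (Subgroup.zpowers a0) G).map iL := by
    intro a0
    ext x
    constructor
    · rintro ⟨⟨g, rfl⟩, hc⟩
      replace hc : iL g ∈ Subgroup.centralizer {iR a0} := hc
      rw [Subgroup.mem_centralizer_singleton_iff] at hc
      have h2 : iR a0 * iL g * (iR a0)⁻¹ = iL g := by
        rw [← hc, mul_inv_cancel_right]
      rw [hconj] at h2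
      have h3 : a0 • g = g := hiL h2
      refine Subgroup.mem_map.mpr ⟨g, ?_, rfl⟩
      rw [FixedPoints.mem_subgroup]
      rintro ⟨z, hz⟩
      have hle : Subgroup.zpowers a0 ≤ MulAction.stabilizer A g :=
        Subgroup.zpowers_le.mpr (MulAction.mem_stabilizer_iff.mpr h3)
      exact MulAction.mem_stabilizer_iff.mp (hle hz)
    · intro hx
      obtain ⟨g, hg, rfl⟩ := Subgroup.mem_map.mp hx
      refine ⟨⟨g, rfl⟩, ?_⟩
      show iL g ∈ Subgroup.centralizer {iR a0}
      rw [Subgroup.mem_centralizer_singleton_iff]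
      rw [FixedPoints.mem_subgroup] at hg
      have h3 : a0 • g = g := hg ⟨a0, Subgroup.mem_zpowers a0⟩
      have h2 := hconj a0 g
      rw [h3] at h2
      calc iL g * iR a0 = iR a0 * iL g * (iR a0)⁻¹ * iR a0 := by rw [h2]
        _ = iR a0 * iL g := inv_mul_cancel_right _ _
  have hm' : ∀ a ∈ iR.range, a ≠ 1 →
      Nat.card ↥⁅iL.range ⊓ Subgroup.centralizer {a}, iL.range ⊓ Subgroup.centralizer {a}⁆ ≤ m := by
    rintro _ ⟨a0, rfl⟩ ha1
    have ha0 : a0 ≠ 1 := by
      rintro rfl
      exact ha1 (map_one _)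
    rw [hcent a0, ← Subgroup.map_commutator, Subgroup.card_map_of_injective hiL,
      card_commutator_self_eq]
    exact hm a0 ha0
  have key := hF q m H iL.range iR.range hq hNn hcomm' hexp' hcard' hqN hm'
  have hrange : iL.range = (⊤ : Subgroup G).map iL := MonoidHom.range_eq_map iL
  rw [hrange, ← Subgroup.map_commutator, Subgroup.card_map_of_injective hiL] at key
  rwa [commutator_def]
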