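import Mathlib
import Cfsg.Agent.Helper48.WielandtOrder

set_option autoImplicit false

/-!
# S4316 pieces (G1) (own copy) and (G2), for helper71: class size bound from Wielandt's order
formula (helper59)
-/

namespace Cfsg.Agent.Helper59.GS

/-- (G1), own copy: `|K| ≤ |K'| * |C_K(x)|` for `x ∈ K`. -/
theorem card_le_card_commutator_mul_aux {Γ : Type*} [Group Γ] [Finite Γ] (K : Subgroup Γ) {x : Γ}
    (hx : x ∈ K) :
    Nat.card K ≤ Nat.card ↥⁅K, K⁆ * Nat.card ↥(K ⊓ Subgroup.centralizer {x}) := by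
  classical
  rw [← Nat.card_prod]
  let r : Γ → Γ := fun c => if h : ∃ r ∈ K, r * x * r⁻¹ * x⁻¹ = c then h.choose else 1
  have hr : ∀ k ∈ K, r (k * x * k⁻¹ * x⁻¹) ∈ K ∧
      r (k * x * k⁻¹ * x⁻¹) * x * (r (k * x * k⁻¹ * x⁻¹))⁻¹ * x⁻¹ = k * x * k⁻¹ * x⁻¹ := by
    intro k hk
    have h : ∃ r ∈ K, r * x * r⁻¹ * x⁻¹ = k * x * k⁻¹ * x⁻¹ := ⟨k, hk, rfl⟩
    simp only [r, dif_pos h]
    exact h.choose_spec
  have h1 : ∀ k : K, (k : Γ) * x * (k : Γ)⁻¹ * x⁻¹ ∈ ⁅K, K⁆ := by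
    intro k
    have := Subgroup.commutator_mem_commutator k.2 hx
    rwa [commutatorElement_def] at this
  have h2 : ∀ k : K, (r ((k : Γ) * x * (k : Γ)⁻¹ * x⁻¹))⁻¹ * (k : Γ) ∈
      K ⊓ Subgroup.centralizer {x} := by
    intro k
    obtain ⟨hrK, hre⟩ := hr k k.2
    refine ⟨K.mul_mem (K.inv_mem hrK) k.2, ?_⟩
    show _ ∈ Subgroup.centralizer {x}
    rw [Subgroup.mem_centralizer_singleton_iff]
    set s := r ((k : Γ) * x * (k : Γ)⁻¹ * x⁻¹)
    have h3 : s * x * s⁻¹ = (k : Γ) * x * (k : Γ)⁻¹ := mul_right_cancel hre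
    have h4 : x = s⁻¹ * ((k : Γ) * x * (k : Γ)⁻¹) * s := by
      rw [← h3]; group
    calc s⁻¹ * (k : Γ) * x = s⁻¹ * ((k : Γ) * x * (k : Γ)⁻¹) * s * (s⁻¹ * (k : Γ)) := by group
      _ = x * (s⁻¹ * (k : Γ)) := by rw [← h4]
  refine Nat.card_le_card_of_injective
    (fun k : K => ((⟨(k : Γ) * x * (k : Γ)⁻¹ * x⁻¹, h1 k⟩, ⟨_, h2 k⟩) :
      ↥⁅K, K⁆ × ↥(K ⊓ Subgroup.centralizer {x}))) ?_
  intro k k' hkk
  simp only [Prod.mk.injEq, Subtype.mk.injEq] at hkk
  obtain ⟨e1, e2⟩ := hkk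
  rw [e1] at e2
  exact Subtype.ext (mul_left_cancel e2)

theorem card_le_pow_mul_card_centralizer {Γ : Type*} [Group Γ] [Finite Γ] {q : ℕ} [Fact q.Prime]
    (m : ℕ) (N : Subgroup Γ) {a b x : Γ} (hab : Commute a b) (haq : a ^ q = 1) (hbq : b ^ q = 1)
    (haN : a ∈ Subgroup.normalizer (N : Set Γ)) (hbN : b ∈ Subgroup.normalizer (N : Set Γ))
    (hcop : (Nat.card N).Coprime q) (hx : x ∈ N) (hxa : Commute a x) (hxb : Commute b x)
    (hm : ∀ c : Γ, (c = b ∨ ∃ i : ℕ, c = a * b ^ i) →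
      Nat.card ↥⁅N ⊓ Subgroup.centralizer {c}, N ⊓ Subgroup.centralizer {c}⁆ ≤ m) :
    Nat.card N ≤ m ^ (q + 1) * Nat.card ↥(N ⊓ Subgroup.centralizer {x}) := by
  classical
  set H : Subgroup Γ := N ⊓ Subgroup.centralizer {x} with hH
  have hHN : H ≤ N := inf_le_left
  -- normalizing `H`
  have hnorm : ∀ g : Γ, g ∈ Subgroup.normalizer (N : Set Γ) → Commute g x →
      g ∈ Subgroup.normalizer (H : Set Γ) := by
    intro g hgN hgx
    rw [Subgroup.mem_normalizer_iff]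
    rw [Subgroup.mem_normalizer_iff] at hgN
    intro h
    have hcx : ∀ y : Γ, y ∈ Subgroup.centralizer {x} ↔ g * y * g⁻¹ ∈ Subgroup.centralizer {x} := by
      intro y
      rw [Subgroup.mem_centralizer_singleton_iff, Subgroup.mem_centralizer_singleton_iff]
      have hgx' : g * x = x * g := hgx.eq
      have hgx'' : g⁻¹ * x = x * g⁻¹ := (hgx.inv_left).eq
      constructor
      · intro hy
        calc g * y * g⁻¹ * x = g * (y * x) * g⁻¹ := by
              rw [mul_assoc, hgx'', ← mul_assoc, mul_assoc g y x]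
          _ = g * (x * y) * g⁻¹ := by rw [hy]
          _ = x * (g * y * g⁻¹) := by
              rw [← mul_assoc g x y, hgx']; group
      · intro hy
        have : y = g⁻¹ * (g * y * g⁻¹) * g := by group
        rw [this]
        calc g⁻¹ * (g * y * g⁻¹) * g * x = g⁻¹ * (g * y * g⁻¹ * x) * g := by
              rw [mul_assoc _ g x, hgx']; group
          _ = g⁻¹ * (x * (g * y * g⁻¹)) * g := by rw [hy]
          _ = x * (g⁻¹ * (g * y * g⁻¹) * g) := by
              rw [← mul_assoc g⁻¹ x, hgx'']; group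
    constructor
    · rintro ⟨h1, h2⟩
      exact ⟨(hgN h).1 h1, (hcx h).1 h2⟩
    · rintro ⟨h1, h2⟩
      exact ⟨(hgN h).2 h1, (hcx h).2 h2⟩
  have haH := hnorm a haN hxa
  have hbH := hnorm b hbN hxb
  have hcopH : (Nat.card H).Coprime q :=
    Nat.Coprime.coprime_dvd_left (Subgroup.card_dvd_of_le hHN) hcop
  have hWN := Cfsg.Agent.Helper48.wFormula hab haq hbq N haN hbN hcop
  have hWH := Cfsg.Agent.Helper48.wFormula hab haq hbq H haH hbH hcopH
  unfold Cfsg.Agent.Helper48.WFormula at hWN hWH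
  -- the key inequality for each `c`
  have hkey : ∀ c : Γ, (c = b ∨ ∃ i : ℕ, c = a * b ^ i) →
      Nat.card ↥(N ⊓ Subgroup.centralizer {c}) ≤ m * Nat.card ↥(H ⊓ Subgroup.centralizer {c}) := by
    intro c hc
    have hcx : Commute c x := by
      rcases hc with rfl | ⟨i, rfl⟩
      · exact hxb
      · exact hxa.mul_left (hxb.pow_left i)
    have hxK : x ∈ N ⊓ Subgroup.centralizer {c} := by
      refine ⟨hx, ?_⟩
      show x ∈ Subgroup.centralizer {c}
      rw [Subgroup.mem_centralizer_singleton_iff]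
      exact hcx.eq.symm
    have h1 := card_le_card_commutator_mul_aux (N ⊓ Subgroup.centralizer {c}) hxK
    have h2 : N ⊓ Subgroup.centralizer {c} ⊓ Subgroup.centralizer {x} =
        H ⊓ Subgroup.centralizer {c} := by
      rw [hH, inf_right_comm]
    rw [h2] at h1
    exact h1.trans (Nat.mul_le_mul_right _ (hm c hc))
  have hposP : 0 < Nat.card ↥(N ⊓ Subgroup.centralizer ({a} : Set Γ) ⊓
      Subgroup.centralizer ({b} : Set Γ)) ^ q := pow_pos Nat.card_pos _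
  have hle1 : (∏ i : ZMod q, Nat.card ↥(N ⊓ Subgroup.centralizer ({a * b ^ i.val} : Set Γ))) ≤
      ∏ i : ZMod q, (m * Nat.card ↥(H ⊓ Subgroup.centralizer ({a * b ^ i.val} : Set Γ))) :=
    Finset.prod_le_prod (fun _ _ => Nat.zero_le _) (fun i _ => hkey _ (Or.inr ⟨i.val, rfl⟩))
  have hle2 := hkey b (Or.inl rfl)
  have hprod : (∏ i : ZMod q, (m * Nat.card ↥(H ⊓ Subgroup.centralizer ({a * b ^ i.val} : Set Γ)))) =
      m ^ q * ∏ i : ZMod q, Nat.card ↥(H ⊓ Subgroup.centralizer ({a * b ^ i.val} : Set Γ)) := by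
    rw [Finset.prod_mul_distrib, Finset.prod_const, Finset.card_univ, ZMod.card]
  have hPle : Nat.card ↥(H ⊓ Subgroup.centralizer ({a} : Set Γ) ⊓
      Subgroup.centralizer ({b} : Set Γ)) ^ q ≤
      Nat.card ↥(N ⊓ Subgroup.centralizer ({a} : Set Γ) ⊓
      Subgroup.centralizer ({b} : Set Γ)) ^ q := by
    apply Nat.pow_le_pow_left
    exact Subgroup.card_le_of_le (inf_le_inf_right _ (inf_le_inf_right _ hHN))
  apply Nat.le_of_mul_le_mul_right _ hposP
  calc Nat.card ↥N * Nat.card ↥(N ⊓ Subgroup.centralizer ({a} : Set Γ) ⊓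
          Subgroup.centralizer ({b} : Set Γ)) ^ q
      = (∏ i : ZMod q, Nat.card ↥(N ⊓ Subgroup.centralizer ({a * b ^ i.val} : Set Γ))) *
          Nat.card ↥(N ⊓ Subgroup.centralizer ({b} : Set Γ)) := hWN
    _ ≤ (m ^ q * ∏ i : ZMod q, Nat.card ↥(H ⊓ Subgroup.centralizer ({a * b ^ i.val} : Set Γ))) *
          (m * Nat.card ↥(H ⊓ Subgroup.centralizer ({b} : Set Γ))) := by
        rw [← hprod]
        exact Nat.mul_le_mul hle1 hle2
    _ = m ^ (q + 1) * ((∏ i : ZMod q, Nat.card ↥(H ⊓ Subgroup.centralizer ({a * b ^ i.val} : Set Γ))) *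
          Nat.card ↥(H ⊓ Subgroup.centralizer ({b} : Set Γ))) := by
        rw [pow_succ]; ring
    _ = m ^ (q + 1) * (Nat.card ↥H * Nat.card ↥(H ⊓ Subgroup.centralizer ({a} : Set Γ) ⊓
          Subgroup.centralizer ({b} : Set Γ)) ^ q) := by rw [hWH]
    _ ≤ m ^ (q + 1) * (Nat.card ↥H * Nat.card ↥(N ⊓ Subgroup.centralizer ({a} : Set Γ) ⊓
          Subgroup.centralizer ({b} : Set Γ)) ^ q) :=
        Nat.mul_le_mul_left _ (Nat.mul_le_mul_left _ hPle)
    _ = m ^ (q + 1) * Nat.card ↥H * Nat.card ↥(N ⊓ Subgroup.centralizer ({a} : Set Γ) ⊓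
          Subgroup.centralizer ({b} : Set Γ)) ^ q := by ring

end Cfsg.Agent.Helper59.GS
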